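import Groth.Agent.AVLine.Space
import Groth.Agent.BGaNotS.GaPts
import Groth.Agent.Chev.SolvTorus
import Groth.Agent.AutFinOrd.NoGa
import Mathlib.Algebra.MvPolynomial.Nilpotent

/-!
# Morphisms from the affine line to extensions of abelian varieties by tori
-/

set_option autoImplicit false
set_option backward.isDefEq.respectTransparency false
set_option linter.style.haveILetI false
set_option maxHeartbeats 1000000

universe u

open CategoryTheory CategoryTheory.Limits MonoidalCategory CartesianMonoidalCategory MonObj GrpObj AlgebraicGeometry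

noncomputable section

namespace Groth.Agent.NoAffLine

variable {k : Type u} [Field k]

/-- The affine line. -/
abbrev Line (k : Type u) [Field k] : Over (Spec (CommRingCat.of k)) :=
  Over.mk (𝔸(PUnit.{u + 1}; Spec (CommRingCat.of k)) ↘ Spec (CommRingCat.of k))

/-- The point with coordinate a section. -/
def linePt (a : Γ((𝟙_ (Over (Spec (CommRingCat.of k)))).left, ⊤)) : 𝟙_ (Over (Spec (CommRingCat.of k))) ⟶ Line k :=
  Over.homMk (AffineSpace.homOfVector (𝟙_ (Over (Spec (CommRingCat.of k)))).hom fun _ => a)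
    (AffineSpace.homOfVector_over _ _)

theorem exists_point_of_left {X Y : Over (Spec (CommRingCat.of k))} (f : X ⟶ Y)
    (a : Spec (CommRingCat.of k) ⟶ Y.left) (ha : a ≫ Y.hom = 𝟙 _) (hf : f.left = X.hom ≫ a) :
    ∃ g : 𝟙_ (Over (Spec (CommRingCat.of k))) ⟶ Y, f = toUnit X ≫ g :=
  ⟨Over.homMk a ha, Over.OverMorphism.ext (by
    rw [hf, Over.comp_left, Over.toUnit_left]
    rfl)⟩

/-- Morphisms from the affine line to proper groups are constant. -/
theorem exists_const_av {A : Over (Spec (CommRingCat.of k))} [GrpObj A] [IsProper A.hom] (f : Line k ⟶ A) :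
    ∃ g : 𝟙_ (Over (Spec (CommRingCat.of k))) ⟶ A, f = toUnit _ ≫ g := by
  let e := AffineSpace.SpecIso PUnit.{u + 1} (CommRingCat.of k)
  obtain ⟨a, ha, hfa⟩ := AVLine.exists_const_hom (σ := PUnit.{u + 1}) A (e.inv ≫ f.left) (by
    rw [Category.assoc, Over.w f]
    exact AffineSpace.SpecIso_inv_over _)
  refine exists_point_of_left f a ha ?_
  rw [← e.hom_inv_id_assoc f.left, hfa, ← Category.assoc]
  congr 1
  rw [← e.hom_inv_id_assoc (Line k).hom]
  congr 1
  exact (AffineSpace.SpecIso_inv_over (n := PUnit.{u + 1}) (CommRingCat.of k)).symm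

/-- Morphisms from the affine line to tori are constant. -/
theorem exists_const_torus [IsAlgClosed k] {T : Over (Spec (CommRingCat.of k))} [GrpObj T] (hT : Red.IsTorus T)
    (f : Line k ⟶ T) : ∃ g : 𝟙_ (Over (Spec (CommRingCat.of k))) ⟶ T, f = toUnit _ ≫ g := by
  obtain ⟨B, _, _, eT, -, -, -, M, _, ⟨E⟩⟩ := Chev.Borel.exists_hopf_torus hT
  let e := AffineSpace.SpecIso PUnit.{u + 1} (CommRingCat.of k)
  let P := MvPolynomial PUnit.{u + 1} k
  let ψ : CommRingCat.of B ⟶ CommRingCat.of P := Spec.preimage (e.inv ≫ f.left ≫ eT.inv.left)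
  have hψ : Spec.map ψ = e.inv ≫ f.left ≫ eT.inv.left := Spec.map_preimage _
  have halg : CommRingCat.ofHom (algebraMap k B) ≫ ψ = CommRingCat.ofHom (MvPolynomial.C : k →+* P) := by
    apply Spec.map_injective
    rw [Spec.map_comp, hψ]
    simp only [Category.assoc]
    rw [show eT.inv.left ≫ Spec.map (CommRingCat.ofHom (algebraMap k B)) = T.hom from Over.w eT.inv, Over.w f]
    exact AffineSpace.SpecIso_inv_over _
  have halg' : ∀ r : k, ψ.hom (algebraMap k B r) = MvPolynomial.C r := fun r => congr($(halg) r)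
  have hu : ∀ m : M, ψ.hom (E.symm (MonoidAlgebra.single m 1)) =
      MvPolynomial.C (MvPolynomial.constantCoeff (ψ.hom (E.symm (MonoidAlgebra.single m 1)))) := fun m => by
    have h1 : IsUnit (MonoidAlgebra.single m (1 : k)) :=
      IsUnit.of_mul_eq_one (MonoidAlgebra.single m⁻¹ (1 : k))
        (by rw [MonoidAlgebra.single_mul_single, mul_inv_cancel, _root_.one_mul, ← MonoidAlgebra.one_def])
    obtain ⟨r, -, hr⟩ := MvPolynomial.isUnit_iff_eq_C_of_isReduced.1 ((h1.map E.symm).map ψ.hom)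
    rw [hr, MvPolynomial.constantCoeff_C]
  have hψ' : ψ.hom = (MvPolynomial.C : k →+* P).comp ((MvPolynomial.constantCoeff : P →+* k).comp ψ.hom) := by
    refine RingHom.ext fun b => ?_
    obtain ⟨x, rfl⟩ : ∃ x, E.symm x = b := ⟨E b, E.symm_apply_apply b⟩
    show ψ.hom (E.symm x) = MvPolynomial.C (MvPolynomial.constantCoeff (ψ.hom (E.symm x)))
    induction x using MonoidAlgebra.induction_on with
    | of m => exact hu m
    | add x y hx hy => simp only [map_add, ← hx, ← hy]
    | smul r x hx =>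
      rw [map_smul E.symm, Algebra.smul_def, map_mul, map_mul, map_mul, ← hx, halg', MvPolynomial.constantCoeff_C]
  let cc : CommRingCat.of B ⟶ CommRingCat.of k :=
    CommRingCat.ofHom ((MvPolynomial.constantCoeff : P →+* k).comp ψ.hom)
  refine exists_point_of_left f (Spec.map cc ≫ eT.hom.left) ?_ ?_
  · rw [Category.assoc, Over.w eT.hom, show ((Spec (CommRingCat.of B)).asOver (Spec (CommRingCat.of k))).hom =
      Spec.map (CommRingCat.ofHom (algebraMap k B)) from rfl, ← Spec.map_comp, ← Spec.map_id]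
    congr 1
    exact CommRingCat.hom_ext (RingHom.ext fun r => by
      show MvPolynomial.constantCoeff (ψ.hom (algebraMap k B r)) = r
      rw [halg', MvPolynomial.constantCoeff_C])
  · have h1 : e.inv ≫ f.left = Spec.map ψ ≫ eT.hom.left := by
      rw [hψ, Category.assoc, Category.assoc, ← Over.comp_left, eT.inv_hom_id]
      simp
    have h2 : ψ = cc ≫ CommRingCat.ofHom (MvPolynomial.C : k →+* P) := CommRingCat.hom_ext hψ'
    rw [← e.hom_inv_id_assoc f.left, h1, h2, Spec.map_comp, Category.assoc, ← Category.assoc]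
    congr 1
    rw [← e.hom_inv_id_assoc (Line k).hom]
    congr 1
    exact (AffineSpace.SpecIso_inv_over (n := PUnit.{u + 1}) (CommRingCat.of k)).symm

/-- Morphisms from the affine line to extensions of abelian varieties by tori are constant. -/
theorem exists_const_ext [IsAlgClosed k] {G T A : Over (Spec (CommRingCat.of k))} [GrpObj G] [GrpObj T] [GrpObj A]
    (hT : Red.IsTorus T) (i : T ⟶ G) [IsMonHom i] (q : G ⟶ A) [IsMonHom q] [IsProper A.hom]
    (hk : AlgGrp.IsKernel i q) (f : Line k ⟶ G) :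
    ∃ g : 𝟙_ (Over (Spec (CommRingCat.of k))) ⟶ G, f = toUnit _ ≫ g := by
  obtain ⟨c, hc⟩ := exists_const_av (f ≫ q)
  let g₀ : 𝟙_ (Over (Spec (CommRingCat.of k))) ⟶ G := linePt 0 ≫ f
  have hg₀ : g₀ ≫ q = c := by
    rw [Category.assoc, hc, ← Category.assoc, toUnit_unique (linePt 0 ≫ toUnit _) (𝟙 _), Category.id_comp]
  have hh : (f * (toUnit _ ≫ g₀)⁻¹) ≫ q = 1 := by
    rw [MonObj.mul_comp, GrpObj.inv_comp, Category.assoc, hg₀, ← hc, mul_inv_cancel]
  obtain ⟨t, ht⟩ := exists_const_torus hT (hk.lift (f * (toUnit _ ≫ g₀)⁻¹) (toUnit _) (by rw [hh, Hom.one_def]))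
  refine ⟨(t ≫ i) * g₀, ?_⟩
  rw [MonObj.comp_mul, ← Category.assoc, ← ht, hk.lift_fst, inv_mul_cancel_right]

/-- A closed additive subgroup gives a nonconstant morphism from the affine line. -/
theorem noGaSub_of_const {G : Over (Spec (CommRingCat.of k))} [GrpObj G]
    (h : ∀ f : Line k ⟶ G, ∃ g : 𝟙_ (Over (Spec (CommRingCat.of k))) ⟶ G, f = toUnit _ ≫ g) :
    AutFinOrd.NoGaSub G := by
  intro j hj hjc
  haveI : Mono j := GrpField.SchImg.mono_of_isClosedImmersion j
  let x : Line k ⟶ Red.Ga (Spec (CommRingCat.of k)) :=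
    BGaNotS.gaPt (AffineSpace.coord (Spec (CommRingCat.of k)) PUnit.unit)
  obtain ⟨g, hg⟩ := h (x ≫ j)
  have key : ∀ a, linePt a ≫ x = BGaNotS.gaPt a := fun a => BGaNotS.gaPt_ext (by
    rw [BGaNotS.gaFn_gaPt, Red.gaFn, Over.comp_left, Category.assoc, Scheme.Hom.comp_appTop, CommRingCat.comp_apply]
    show (linePt a).left.appTop (Red.gaFn x) = a
    rw [BGaNotS.gaFn_gaPt]
    exact AffineSpace.homOfVector_appTop_coord _ _ _)
  have e : ∀ a, BGaNotS.gaPt a ≫ j = g := fun a => by
    rw [← key, Category.assoc, hg, ← Category.assoc, toUnit_unique (linePt a ≫ toUnit _) (𝟙 _), Category.id_comp]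
  have h2 := congrArg Red.gaFn ((cancel_mono j).1 ((e 0).trans (e 1).symm))
  rw [BGaNotS.gaFn_gaPt, BGaNotS.gaFn_gaPt] at h2
  have h3 := congrArg (Scheme.ΓSpecIso (CommRingCat.of k)).hom.hom h2
  exact zero_ne_one ((map_zero _).symm.trans (h3.trans (map_one _)))

end Groth.Agent.NoAffLine
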