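import Groth.Agent.Chev.LinSection
import Groth.Agent.Chev.BorelCentre
import Groth.Agent.Chev.CentSolv
import Groth.Agent.UniRad.Radical
import Groth.Agent.RedQuot.Main
import Groth.Agent.Chev.LargestSA
import Groth.Agent.Chev.LargestNormal
import Groth.Agent.AutFinOrd.NoGa

/-!
# Connected affine groups without additive subgroups are tori
-/

set_option autoImplicit false
set_option backward.isDefEq.respectTransparency false
set_option linter.style.haveILetI false
set_option linter.unusedSectionVars false
set_option maxHeartbeats 1000000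
set_option synthInstance.maxHeartbeats 400000

universe u

open CategoryTheory CategoryTheory.Limits MonoidalCategory CartesianMonoidalCategory MonObj GrpObj AlgebraicGeometry
open Groth.Agent.SubGen (rpt map_rpt exists_rpt)

noncomputable section

namespace Groth.Agent.NoAffLine

open Chev Chev.BorelFixed Chev.Borel AutFinOrd

variable {k : Type u} [Field k]

theorem noGaSub_of_closedImmersion {H G : Over (Spec (CommRingCat.of k))} [GrpObj H] [GrpObj G] (i : H ⟶ G) [IsMonHom i]
    [IsClosedImmersion i.left] (hG : NoGaSub G) : NoGaSub H := fun j hj hjc =>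
  hG (j ≫ i) (haveI := hj; inferInstance) (haveI := hjc; inferInstanceAs (IsClosedImmersion (j.left ≫ i.left)))

theorem noSubtorus_of_mono {H G : Over (Spec (CommRingCat.of k))} [GrpObj H] [GrpObj G] (i : H ⟶ G) [IsMonHom i]
    [Mono i] (hG : Red.HasNoSubtorus k G) : Red.HasNoSubtorus k H := fun T _ j _ _ hT =>
  haveI : Mono (j ≫ i) := mono_comp j i
  hG T (j ≫ i) hT

variable [IsAlgClosed k]

/-- A connected unipotent group without additive subgroups is trivial. -/
theorem eq_one_of_noSubtorus_noGa (d : ℕ) : ∀ (U : Over (Spec (CommRingCat.of k))) [GrpObj U] [IsAffine U.left]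
    [Smooth U.hom] [ConnectedSpace U.left] [Group.IsSolvable (RP U)], topologicalKrullDim U.left ≤ d →
    Red.HasNoSubtorus k U → NoGaSub U → ∀ z : RP U, z = 1 := by
  induction d using Nat.strong_induction_on with
  | _ d ih => ?_
  intro U _ _ _ _ _ hdim hU hGa
  by_contra hne
  push_neg at hne
  haveI : IsAffineHom U.hom := isAffineHom_of_isAffine U.hom
  obtain ⟨N, _, i, him, hic, hNs, hNc, hni, hcom⟩ := exists_normal_commutator U hne
  haveI := him; haveI := hic; haveI := hNs; haveI := hNc
  haveI : IsAffine N.left := isAffine_of_isAffineHom i.left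
  haveI : IsAffineHom N.hom := isAffineHom_of_isAffine N.hom
  haveI : Mono i := GrpField.SchImg.mono_of_isClosedImmersion i
  haveI : Group.IsSolvable (RP N) := Group.isSolvable_of_isSolvable_injective (f := rpHom i)
    fun x y hxy => (cancel_mono i).1 hxy
  obtain ⟨e, he⟩ := exists_natDim' N
  have hlt : e < d := by
    obtain ⟨e', he'⟩ := exists_natDim' U
    have h1 : e ≤ e' := by
      have := dim_le_of_closedImmersion i
      rw [he, he'] at this
      exact_mod_cast this
    have h2 : e ≠ e' := fun hee => hni (isIso_of_dim_eq i (by rw [he, he', hee]))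
    have h3 : e' ≤ d := by rw [he'] at hdim; exact_mod_cast hdim
    omega
  have hN := ih e hlt N he.le (noSubtorus_of_mono i hU) (noGaSub_of_closedImmersion i hGa)
  have hcomm : ∀ a b : RP U, a * b = b * a := fun a b => by
    obtain ⟨n, hn⟩ := hcom _ a b
    rw [hN n, MonObj.one_comp] at hn
    exact (commutatorElement_eq_one_iff_mul_comm.1 hn.symm)
  haveI : Smooth (U ⊗ U).hom := by
    show Smooth (pullback.fst U.hom U.hom ≫ U.hom)
    infer_instance
  haveI : IsReduced (U ⊗ U).left := SmoothRed.isReduced_of_smooth_scheme (U ⊗ U).hom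
  haveI : IsCommMonObj U := ⟨by
    have h : snd U U * fst U U = fst U U * snd U U := hom_ext_rp fun z => by
      rw [MonObj.comp_mul, MonObj.comp_mul, hcomm]
    have h1 : μ[U] = fst U U * snd U U := by rw [Hom.mul_def]; simp
    rw [h1, MonObj.comp_mul, braiding_hom_fst, braiding_hom_snd]
    exact h⟩
  obtain ⟨z, hz⟩ := hne
  by_cases hI : IsIso U.hom
  · haveI := hI
    exact hz (Over.OverMorphism.ext ((cancel_mono U.hom).1 (by rw [Over.w, Over.w])))
  · obtain ⟨j, hj, hjc⟩ := LinSection.exists_ga_sub U hU hI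
    exact hGa j hj hjc

/-- A connected solvable group without additive subgroups is a torus. -/
theorem isTorus_of_solvable (B : Over (Spec (CommRingCat.of k))) [GrpObj B] [IsAffine B.left] [Smooth B.hom]
    [ConnectedSpace B.left] [Group.IsSolvable (RP B)] (hGa : NoGaSub B) : Red.IsTorus B := by
  haveI : IsReduced B.left := SmoothRed.isReduced_of_smooth_scheme B.hom
  obtain ⟨V, _, v, hv, hVa, hVc, hVt, -, T₀, _, iT₀, π₀, hiT₀, hπ₀, hsec, hT₀, hfac⟩ := UniRad.exists_radical_core B
  obtain ⟨hvm, hvc, hvn, hvs, -, -, -⟩ := id hv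
  haveI := hvm; haveI := hvc; haveI := hvs; haveI := hVa; haveI := hVc; haveI := hiT₀; haveI := hπ₀
  haveI : IsAffineHom V.hom := isAffineHom_of_isAffine V.hom
  haveI := RedCent.isSolvable_of_noSubtorus hVt
  obtain ⟨d, hd⟩ := exists_natDim' V
  have hV := eq_one_of_noSubtorus_noGa d V hd.le hVt (noGaSub_of_closedImmersion v hGa)
  let ρ : B ⟶ B := 𝟙 B * (π₀ ≫ iT₀)⁻¹
  have hρ : ρ ≫ π₀ = 1 := by
    simp only [ρ, MonObj.mul_comp, GrpObj.inv_comp, Category.id_comp, Category.assoc, hsec, Category.comp_id,
      mul_inv_cancel]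
  obtain ⟨f', hf'⟩ := hfac B ρ 1 hρ (by
    simp only [ρ, MonObj.comp_mul, GrpObj.comp_inv, Category.comp_id, MonObj.one_comp, inv_one, _root_.mul_one])
  have hρ1 : ρ = 1 := hom_ext_rp fun z => by
    rw [← hf', ← Category.assoc, hV (z ≫ f'), MonObj.one_comp, MonObj.comp_one]
  have hid : π₀ ≫ iT₀ = 𝟙 B := (mul_inv_eq_one.1 hρ1).symm
  let e : T₀ ≅ B := ⟨iT₀, π₀, hsec, hid⟩
  haveI : IsMonHom e.hom := hiT₀
  exact isTorus_of_iso e hT₀

/-- **A connected affine group without additive subgroups is a torus.** -/
theorem isTorus_of_noGa (L : Over (Spec (CommRingCat.of k))) [GrpObj L] [IsAffine L.left] [Smooth L.hom]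
    [ConnectedSpace L.left] (hGa : NoGaSub L) : Red.IsTorus L := by
  haveI : IsAffineHom L.hom := isAffineHom_of_isAffine L.hom
  have hborel : ∀ (B : Over (Spec (CommRingCat.of k))) [GrpObj B] (iB : B ⟶ L), Red.IsBorelOver k iB → Red.IsTorus B := by
    intro B _ iB hB
    haveI := hB.1; haveI := hB.2.1; haveI := hB.2.2.1; haveI := hB.2.2.2.1
    haveI : IsAffine B.left := isAffine_of_isAffineHom iB.left
    haveI := isSolvable_rp hB.2.2.2.2.1
    exact isTorus_of_solvable B (noGaSub_of_closedImmersion iB hGa)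
  obtain ⟨B, _, iB, hB, -⟩ := exists_borel_proper L
  obtain ⟨hBm, hBc, hBs, hBconn, hBsol, hBmax⟩ := id hB
  haveI := hBm; haveI := hBc; haveI := hBs; haveI := hBconn
  haveI : Mono iB := GrpField.SchImg.mono_of_isClosedImmersion iB
  have hBT := hborel B iB hB
  haveI : Smooth (B ⊗ B).hom := by
    show Smooth (pullback.fst B.hom B.hom ≫ B.hom)
    infer_instance
  haveI : IsReduced (B ⊗ B).left := SmoothRed.isReduced_of_smooth_scheme (B ⊗ B).hom
  haveI : IsAffine B.left := isAffine_of_isAffineHom iB.left
  haveI : IsSeparated B.hom := inferInstance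
  haveI : IsCommMonObj B := ⟨by
    have h : snd B B * fst B B = fst B B * snd B B := hom_ext_rp fun z => by
      rw [MonObj.comp_mul, MonObj.comp_mul, rp_torus_comm hBT]
    have h1 : μ[B] = fst B B * snd B B := by rw [Hom.mul_def]; simp
    rw [h1, MonObj.comp_mul, braiding_hom_fst, braiding_hom_snd]
    exact h⟩
  have hcent : ∀ (p : RP B) (g : RP L), g * (p ≫ iB) = (p ≫ iB) * g := fun p g =>
    (comm_of_borel iB hB iB (fun X' a b => by
      rw [← MonObj.mul_comp, ← MonObj.mul_comp]
      congr 1
      exact mul_comm (G := _) a b) p g).symm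
  have hmax : AGF.IsMaxTorus iB := by
    refine ⟨hBm, inferInstance, hBT, fun T' _ j _ _ f hT' hf => ?_⟩
    haveI := smooth_of_isTorus hT'
    haveI := connectedSpace_of_isTorus hT'
    haveI := isAffine_of_isTorus hT'
    haveI : Group.IsSolvable (RP T') := Group.isSolvable_of_comm fun x y => rp_torus_comm hT' x y
    haveI : QuasiCompact T'.hom := haveI := isAffineHom_of_isAffine T'.hom; inferInstance
    exact hBmax T' j f (MTBridge.isClosedImmersion_of_mono
      (MTBridge.locally_of_isMultTypeFT' T' (MTBridge.isMultTypeFT_of_isTorus T' hT')) inferInstance j)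
      inferInstance inferInstance (isSolvableGrp_of_rp T') hf
  obtain ⟨B', _, iB', hB', hiso⟩ := exists_borel_iso_of_central iB hmax hcent
  haveI := hiso; haveI := hB'.1
  haveI : IsMonHom (asIso iB').hom := hB'.1
  exact isTorus_of_iso (asIso iB') (hborel B' iB' hB')

end Groth.Agent.NoAffLine
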